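import Cfsg.Agent.H15Z.D
import Cfsg.Agent.S3972
import Cfsg.Agent.S3559
import Cfsg.Agent.FT

/-! Products of a cyclic group and a Z-group: reduction to the doubly transitive case. -/

set_option autoImplicit false
set_option linter.unusedSectionVars false
set_option linter.style.haveILetI false

namespace Cfsg.Agent.H15Z

open Subgroup MulAction

universe u

variable {G : Type u} [Group G] [Finite G]

theorem sol_le {H K : Subgroup G} (hK : Group.IsSolvable K) (h : H ≤ K) : Group.IsSolvable H :=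
  solvable_of_solvable_injective (inclusion_injective h)

theorem sol_map {G' : Type*} [Group G'] {H : Subgroup G} (hH : Group.IsSolvable H) (f : G →* G') :
    Group.IsSolvable (H.map f) := solvable_of_surjective (f.subgroupMap_surjective H)

theorem sol_subgroupOf {H K : Subgroup G} (hH : Group.IsSolvable H) :
    Group.IsSolvable (H.subgroupOf K) :=
  solvable_of_solvable_injective (f := (K.subtype.comp (H.subgroupOf K).subtype).codRestrict H
    fun x => x.2) fun _ _ e => Subtype.ext (Subtype.ext (congrArg (fun z : H => (z : G)) e))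

theorem sol_of_top (h : Group.IsSolvable (⊤ : Subgroup G)) : Group.IsSolvable G :=
  solvable_of_surjective (f := (topEquiv (G := G)).toMonoidHom) topEquiv.surjective

theorem sol_ext {N B H : Subgroup G} [N.Normal] (hB : Group.IsSolvable B) (hH : H ≤ N ⊔ B)
    (hs : Group.IsSolvable (N ⊓ H : Subgroup G)) : Group.IsSolvable H := by
  haveI := sol_map hB (QuotientGroup.mk' N)
  haveI := sol_subgroupOf (K := H) hs
  let f : H →* B.map (QuotientGroup.mk' N) :=
    ((QuotientGroup.mk' N).comp H.subtype).codRestrict _ fun x => by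
      have := map_mono (f := QuotientGroup.mk' N) hH ⟨x, x.2, rfl⟩
      rwa [Subgroup.map_sup, QuotientGroup.map_mk'_self, bot_sup_eq] at this
  refine solvable_of_ker_le_range ((N ⊓ H).subgroupOf H).subtype f fun x hx => ?_
  rw [range_subtype]
  exact ⟨(QuotientGroup.eq_one_iff _).1 (congrArg Subtype.val hx), x.2⟩

theorem exists_rad (G : Type u) [Group G] [Finite G] : ∃ R : Subgroup G, R.Normal ∧
    Group.IsSolvable R ∧ ∀ N : Subgroup G, N.Normal → Group.IsSolvable N → N ≤ R := by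
  obtain ⟨R, ⟨h1, h2⟩, hmax⟩ := (wellFounded_gt (α := Subgroup G)).has_min
    {R | R.Normal ∧ Group.IsSolvable R} ⟨⊥, inferInstance, inferInstance⟩
  refine ⟨R, h1, h2, fun N hN hs => ?_⟩
  have := hmax (N ⊔ R) ⟨inferInstance, sol_ext h2 le_rfl (sol_le hs inf_le_left)⟩
  exact le_sup_left.trans (eq_of_le_of_not_lt le_sup_right this).ge

theorem exists_min {N : Subgroup G} (hN : N.Normal) (hne : N ≠ ⊥) : ∃ E : Subgroup G, E.Normal ∧
    E ≠ ⊥ ∧ E ≤ N ∧ ∀ F : Subgroup G, F.Normal → F ≤ E → F = ⊥ ∨ F = E := by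
  obtain ⟨E, ⟨h1, h2, h3⟩, hmin⟩ := (wellFounded_lt (α := Subgroup G)).has_min
    {E | E.Normal ∧ E ≠ ⊥ ∧ E ≤ N} ⟨N, hN, hne, le_rfl⟩
  refine ⟨E, h1, h2, h3, fun F hF hFE => ?_⟩
  by_cases h : F = ⊥
  · exact Or.inl h
  · exact Or.inr (eq_of_le_of_not_lt hFE (hmin F ⟨hF, h, hFE.trans h3⟩))

/-- No nontrivial solvable normal subgroup. -/
def RF (G : Type u) [Group G] : Prop := ∀ N : Subgroup G, N.Normal → Group.IsSolvable N → N = ⊥

theorem rf_quot {R : Subgroup G} [R.Normal] (hs : Group.IsSolvable R)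
    (hmax : ∀ N : Subgroup G, N.Normal → Group.IsSolvable N → N ≤ R) : RF (G ⧸ R) := by
  intro N hN hNs
  have h1 : Group.IsSolvable (N.comap (QuotientGroup.mk' R)) := by
    haveI := sol_subgroupOf (K := N.comap (QuotientGroup.mk' R)) hs
    refine solvable_of_ker_le_range (R.subgroupOf (N.comap (QuotientGroup.mk' R))).subtype
      ((QuotientGroup.mk' R).subgroupComap N) fun x hx => ?_
    rw [range_subtype]
    exact (QuotientGroup.eq_one_iff (x : G)).1 (congrArg Subtype.val hx)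
  have h2 := map_mono (f := QuotientGroup.mk' R) (hmax _ inferInstance h1)
  rwa [map_comap_eq_self_of_surjective (QuotientGroup.mk'_surjective R), QuotientGroup.map_mk'_self,
    le_bot_iff] at h2

theorem RF.sub (h : RF G) (E : Subgroup G) [E.Normal] : RF E := by
  obtain ⟨R, h1, h2, h3⟩ := exists_rad E
  haveI : R.Characteristic := characteristic_iff_map_le.2 fun φ =>
    h3 _ (h1.map _ φ.surjective) (sol_map h2 _)
  have := h (R.map E.subtype) inferInstance (sol_map h2 _)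
  rw [map_eq_bot_iff_of_injective _ E.subtype_injective] at this
  exact fun N hN hs => le_bot_iff.1 (this ▸ h3 N hN hs)

/-- The hypotheses. -/
structure Hyp (A B : Subgroup G) : Prop where
  cyc : IsCyclic A
  z : IsZGroup B
  fac : ∀ g : G, ∃ a ∈ A, ∃ b ∈ B, g = a * b

namespace Hyp
variable {A B : Subgroup G} (h : Hyp A B)
include h

theorem sol : Group.IsSolvable B := by
  haveI := h.z
  infer_instance

theorem map {G' : Type u} [Group G'] [Finite G'] {f : G →* G'} (hf : Function.Surjective f) :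
    Hyp (A.map f) (B.map f) := by
  haveI := h.cyc
  haveI := h.z
  refine ⟨isCyclic_of_surjective _ (f.subgroupMap_surjective A),
    IsZGroup.of_surjective (f.subgroupMap_surjective B), fun g => ?_⟩
  obtain ⟨g, rfl⟩ := hf g
  obtain ⟨a, ha, b, hb, rfl⟩ := h.fac g
  exact ⟨_, ⟨a, ha, rfl⟩, _, ⟨b, hb, rfl⟩, map_mul _ _ _⟩

theorem fac' {X : Subgroup G} (hX : B ≤ X) {g : G} (hg : g ∈ X) :
    ∃ a ∈ A ⊓ X, ∃ b ∈ B, g = a * b := by
  obtain ⟨a, ha, b, hb, rfl⟩ := h.fac g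
  exact ⟨a, ⟨ha, (mul_mem_cancel_right (hX hb)).1 hg⟩, b, hb, rfl⟩

theorem sub {X : Subgroup G} (hX : B ≤ X) : Hyp (A.subgroupOf X) (B.subgroupOf X) := by
  haveI := h.cyc
  haveI := h.z
  refine ⟨isCyclic_of_injective ((X.subtype.comp (A.subgroupOf X).subtype).codRestrict A fun x => x.2)
    fun x y e => Subtype.ext (Subtype.ext (congrArg (fun z : A => (z : G)) e)),
    IsZGroup.of_injective (f := (subgroupOfEquivOfLe hX).toMonoidHom) (subgroupOfEquivOfLe hX).injective,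
    fun g => ?_⟩
  obtain ⟨a, ha, b, hb, e⟩ := h.fac' hX g.2
  exact ⟨⟨a, ha.2⟩, ha.1, ⟨b, hX hb⟩, hb, Subtype.ext e⟩

theorem core_le {X : Subgroup G} (hX : B ≤ X) : A ⊓ X ≤ X.normalCore := by
  intro x hx g
  obtain ⟨a, ha, b, hb, e⟩ := h.fac g⁻¹
  have : g * x * g⁻¹ = b⁻¹ * x * b := by
    rw [inv_eq_iff_eq_inv.1 e, inv_inv, mul_inv_rev, mul_assoc b⁻¹, comm_of_cyc h.cyc (inv_mem ha) hx.1]
    group
  rw [this]
  exact mul_mem (mul_mem (inv_mem (hX hb)) hx.2) (hX hb)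

theorem core_ne {X : Subgroup G} (hX : B < X) : X.normalCore ≠ ⊥ := fun e => by
  obtain ⟨g, hg, hgB⟩ := SetLike.exists_of_lt hX
  obtain ⟨a, ha, b, hb, rfl⟩ := h.fac' hX.le hg
  have a1 : a = 1 := mem_bot.1 (e ▸ h.core_le hX.le ha)
  rw [a1, one_mul] at hgB
  exact hgB hb

theorem even (hs : ¬ Group.IsSolvable G) : 2 ∣ B.index := by
  haveI := h.z
  by_contra hh
  by_cases h2 : 2 ∣ Nat.card G
  · obtain ⟨N, P, hN, h1, -, h3, h4⟩ := exists_compl B hh h2
    have : Group.IsSolvable P := isSolvable_of_comm IsCyclic.commutative.is_comm.comm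
    exact hs (sol_of_top (sol_ext this h4.sup_eq_top.ge (sol_le
      (FT.solvable_of_odd (Nat.not_even_iff_odd.1 (mt even_iff_two_dvd.1 h1))) inf_le_left)))
  · exact hs (FT.solvable_of_odd (Nat.not_even_iff_odd.1 (mt even_iff_two_dvd.1 h2)))

theorem rel {X Y : Subgroup G} (hY : B ≤ Y) (hYX : Y ≤ X) (h2 : 2 ∣ Y.relIndex X) :
    2 * Nat.card (A ⊓ Y : Subgroup G) ∣ Nat.card (A ⊓ X : Subgroup G) := by
  have h' := h.sub (hY.trans hYX)
  haveI : IsPretransitive (A.subgroupOf X) (X ⧸ Y.subgroupOf X) := ⟨fun c d => by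
    obtain ⟨c, rfl⟩ := QuotientGroup.mk_surjective c
    obtain ⟨d, rfl⟩ := QuotientGroup.mk_surjective d
    obtain ⟨a, ha, b, hb, rfl⟩ := h'.fac c
    obtain ⟨a', ha', b', hb', rfl⟩ := h'.fac d
    refine ⟨⟨a' * a⁻¹, mul_mem ha' (inv_mem ha)⟩, ?_⟩
    change ((a' * a⁻¹ * (a * b) : X) : X ⧸ Y.subgroupOf X) = _
    rw [QuotientGroup.eq]
    have : (a' * a⁻¹ * (a * b))⁻¹ * (a' * b') = b⁻¹ * b' := by group
    rw [this]
    exact mul_mem (inv_mem (hY hb)) (hY hb')⟩
  have h3 := index_stabilizer_of_transitive (A.subgroupOf X) ((1 : X) : X ⧸ Y.subgroupOf X)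
  have h4 := card_mul_index (stabilizer (A.subgroupOf X) ((1 : X) : X ⧸ Y.subgroupOf X))
  have h5 : Nat.card (A.subgroupOf X) = Nat.card (A ⊓ X : Subgroup G) := by
    rw [← inf_subgroupOf_right]
    exact Nat.card_congr (subgroupOfEquivOfLe inf_le_right).toEquiv
  have h6 : Nat.card (stabilizer (A.subgroupOf X) ((1 : X) : X ⧸ Y.subgroupOf X)) =
      Nat.card (A ⊓ Y : Subgroup G) := by
    have : ∀ x : A.subgroupOf X, x ∈ stabilizer (A.subgroupOf X) ((1 : X) : X ⧸ Y.subgroupOf X) ↔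
        ((x : X) : G) ∈ Y := fun x => by
      change (x : X) ∈ stabilizer X ((1 : X) : X ⧸ Y.subgroupOf X) ↔ _
      rw [stabilizer_quotient]
      rfl
    exact Nat.card_congr ⟨fun x => ⟨x.1.1.1, x.1.2, (this _).1 x.2⟩,
      fun x => ⟨⟨⟨x.1, hYX x.2.2⟩, x.2.1⟩, (this _).2 x.2.2⟩, fun _ => rfl, fun _ => rfl⟩
  rw [← h5, ← h4, h6, h3, mul_comm]
  exact Nat.mul_dvd_mul_left _ h2

theorem top_of_coatom (hR : RF G) (hs : ¬ Group.IsSolvable G) (hB : IsCoatom B) :
    ∃ p v, Top B p v := by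
  classical
  haveI : Fact (Nat.Prime 2) := ⟨Nat.prime_two⟩
  have hc : B.normalCore = ⊥ := hR _ inferInstance (sol_le h.sol B.normalCore_le)
  have hinj : Function.Injective (toPermHom G (G ⧸ B)) := by
    rw [← MonoidHom.ker_eq_bot_iff, ← normalCore_eq_ker, hc]
  have faith : ∀ g : G, (∀ c : G ⧸ B, g • c = c) → g = 1 := fun g hg =>
    (injective_iff_map_eq_one _).1 hinj g (Equiv.ext hg)
  have hAB : A ⊓ B = ⊥ := le_bot_iff.1 (hc ▸ h.core_le le_rfl)
  have hcomp : IsComplement' A B := isComplement'_of_disjoint_and_mul_eq_univ (disjoint_iff.2 hAB)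
    (Set.eq_univ_of_forall fun g => by
      obtain ⟨a, ha, b, hb, rfl⟩ := h.fac g
      exact ⟨a, ha, b, hb, rfl⟩)
  have hcard : Nat.card (G ⧸ B) = Nat.card A := hcomp.index_eq_card
  have h2 : 2 ∣ Nat.card (G ⧸ B) := h.even hs
  obtain ⟨⟨u, uA⟩, hu⟩ := exists_prime_orderOf_dvd_card' (G := A) 2 (hcard ▸ h2)
  rw [orderOf_mk] at hu
  have st := stabilizer_quotient B
  have tr : ∀ c : G ⧸ B, ∃ y ∈ A, y • ((1 : G) : G ⧸ B) = c := fun c => by
    obtain ⟨g, rfl⟩ := QuotientGroup.mk_surjective c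
    obtain ⟨a, ha, b, hb, rfl⟩ := h.fac g
    refine ⟨a, ha, ?_⟩
    change ((a * 1 : G) : G ⧸ B) = _
    rw [QuotientGroup.eq]
    simpa using hb
  have three : ∃ c : G ⧸ B, c ≠ ((1 : G) : G ⧸ B) ∧ c ≠ u • ((1 : G) : G ⧸ B) := by
    by_contra! hh
    have hb : ∀ b ∈ B, b = 1 := fun b hb => faith b fun c => by
      have h1 : b • ((1 : G) : G ⧸ B) = (1 : G) := mem_stabilizer_iff.1 (st.symm ▸ hb)
      by_cases hc : c = (1 : G)
      · rw [hc, h1]
      · rw [hh (b • c) fun e => hc (MulAction.injective b (e.trans h1.symm)), hh c hc]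
    refine hs (isSolvable_of_comm fun x y => ?_)
    obtain ⟨a, ha, b, hb', rfl⟩ := h.fac x
    obtain ⟨a', ha', b', hb'', rfl⟩ := h.fac y
    rw [hb b hb', hb b' hb'', mul_one, mul_one, comm_of_cyc h.cyc ha ha']
  have u1 : u ≠ 1 := by
    rintro rfl
    simp at hu
  have ua : u • ((1 : G) : G ⧸ B) ≠ (1 : G) := fun e =>
    u1 (mem_bot.1 (hAB ▸ ⟨uA, st ▸ mem_stabilizer_iff.2 e⟩))
  haveI : Nontrivial (G ⧸ B) := ⟨_, _, ua⟩
  haveI : IsPreprimitive G (G ⧸ B) :=
    (isCoatom_stabilizer_iff_preprimitive G ((1 : G) : G ⧸ B)).1 (st.symm ▸ hB)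
  have t2 : IsMultiplyPretransitive G (G ⧸ B) 2 := by
    by_cases hp : IsPrimePow (Nat.card (G ⧸ B))
    · obtain ⟨p, m, hp, hm, e⟩ := (isPrimePow_nat_iff _).1 hp
      have p2 : p = 2 := ((Nat.prime_dvd_prime_iff_eq Nat.prime_two hp).1
        (Nat.prime_two.dvd_of_dvd_pow (e ▸ h2))).symm
      subst p2
      haveI := Fintype.ofFinite (G ⧸ B)
      have hm2 : 2 ≤ m := by
        by_contra hh
        obtain rfl : m = 1 := by omega
        obtain ⟨c, c1, c2⟩ := three
        have := Finset.card_le_univ ({c, ((1 : G) : G ⧸ B), u • ((1 : G) : G ⧸ B)} : Finset (G ⧸ B))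
        rw [Finset.card_eq_three.2 ⟨_, _, _, c1, c2, ua.symm, rfl⟩, ← Nat.card_eq_fintype_card,
          ← e] at this
        omega
      let f : (G ⧸ B) →ₑ[(toPermHom G (G ⧸ B)).rangeRestrict] (G ⧸ B) := ⟨id, fun _ _ => rfl⟩
      have hpr : IsPreprimitive (toPermHom G (G ⧸ B)).range (G ⧸ B) :=
        IsPreprimitive.of_surjective (f := f) Function.surjective_id
      obtain ⟨y, hy⟩ := gen_of_le h.cyc le_rfl
      by_contra hh
      refine (S3972.result 2 m hp hm2 (by rw [← Nat.card_eq_fintype_card, e]) _ hpr.toIsPretransitive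
        (fun h3 => hh (H2.Pm.mt_two_iff.2 fun c d c' d' h1 h4 => ?_))
        ((toPermHom G (G ⧸ B)).rangeRestrict y) ?_).1 hpr
      · obtain ⟨⟨_, g, rfl⟩, g1, g2⟩ := H2.Pm.mt_two_iff.1 h3 c d c' d' h1 h4
        exact ⟨g, g1, g2⟩
      · rw [orderOf_injective _ (MonoidHom.rangeRestrict_injective_iff.2 hinj), e, hcard, ← hy,
          Nat.card_zpowers]
    · haveI : FaithfulSMul G (G ⧸ B) := ⟨fun {g g'} e => hinj (Equiv.ext e)⟩
      refine (S3559.result inferInstance (Finite.one_lt_card (α := G ⧸ B)) hp A h.cyc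
        ⟨⟨fun c d => ?_⟩, fun c => eq_bot_iff.2 fun x hx => ?_⟩).resolve_left (not_not.2 inferInstance)
      · obtain ⟨y, hy, rfl⟩ := tr c
        obtain ⟨z, hz, rfl⟩ := tr d
        refine ⟨⟨z * y⁻¹, mul_mem hz (inv_mem hy)⟩, ?_⟩
        change (z * y⁻¹) • y • ((1 : G) : G ⧸ B) = _
        rw [mul_smul, inv_smul_smul]
      · obtain ⟨y, hy, rfl⟩ := tr c
        have hx : (x : G) • y • ((1 : G) : G ⧸ B) = y • ((1 : G) : G ⧸ B) := hx
        rw [← mul_smul, comm_of_cyc h.cyc x.2 hy, mul_smul, smul_left_cancel_iff] at hx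
        exact Subtype.ext (mem_bot.1 (hAB ▸ ⟨x.2, st ▸ mem_stabilizer_iff.2 hx⟩))
  have hS : St A u ((1 : G) : G ⧸ B) := ⟨faith, H2.Pm.mt_two_iff.1 t2, st.symm ▸ h.z, h.cyc, tr, uA, u1,
    by rw [← pow_two, ← hu, pow_orderOf_eq_one], three⟩
  have := hS.top
  rwa [st] at this

end Hyp

end Cfsg.Agent.H15Z
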