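import Cfsg.Agent.H15Z.E

/-! Products of a cyclic group and a Z-group: the main induction. -/

set_option autoImplicit false
set_option linter.unusedSectionVars false
set_option linter.style.haveILetI false

namespace Cfsg.Agent.H15Z

open Subgroup MulAction

universe u

theorem main (n : ℕ) : ∀ {G : Type u} [Group G] [Finite G] {A B : Subgroup G}, Nat.card G = n →
    Hyp A B → RF G → ¬ Group.IsSolvable G → ∃ p v, Top B p v := by
  induction n using Nat.strong_induction_on with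
  | _ n ih =>
  intro G _ _ A B hn h hR hs
  by_cases hB : IsCoatom B
  · exact h.top_of_coatom hR hs hB
  exfalso
  have hBt : B ≠ ⊤ := fun e => hs (sol_of_top (e ▸ h.sol))
  obtain ⟨M, hBM, hM⟩ : ∃ M, B < M ∧ M ≠ ⊤ := by
    by_contra! hh
    exact hB ⟨hBt, hh⟩
  have hlt : ∀ {X : Subgroup G}, X ≠ ⊤ → Nat.card X < n := fun {X} hX => by
    have h1 := X.card_mul_index
    have h2 := X.one_lt_index_of_ne_top hX
    have := Nat.card_pos (α := X)
    nlinarith
  have nsol : ∀ {E X : Subgroup G}, E.Normal → E ≠ ⊥ → E ≤ X → ¬ Group.IsSolvable X :=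
    fun h1 h2 h3 h4 => h2 (hR _ h1 (sol_le h4 h3))
  have Q : ∀ {X Y : Subgroup G}, X ≠ ⊤ → ¬ Group.IsSolvable X → B ≤ Y → Y ≤ X →
      Group.IsSolvable Y → 2 ∣ Y.relIndex X := fun {X Y} hX hXs hY hYX hYs => by
    obtain ⟨R, h1, h2, h3⟩ := exists_rad X
    have hq : ¬ Group.IsSolvable (X ⧸ R) := fun e => hXs (sol_of_normal R h2 e)
    obtain ⟨p, v, hT⟩ := ih _ ((Nat.le_of_dvd Nat.card_pos (card_quotient_dvd_card R)).trans_lt (hlt hX))
      rfl ((h.sub (hY.trans hYX)).map (QuotientGroup.mk'_surjective R)) (rf_quot h2 h3) hq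
    have e : (Y.subgroupOf X).map (QuotientGroup.mk' R) = (B.subgroupOf X).map (QuotientGroup.mk' R) := by
      refine (eq_of_le_of_not_lt (map_mono (subgroupOf_mono X hY)) fun hh => hq (sol_of_top ?_)).symm
      rw [← hT.coatom.2 _ hh]
      exact sol_map (sol_subgroupOf hYs) _
    refine Dvd.dvd.trans ?_ (index_map_dvd (Y.subgroupOf X) (QuotientGroup.mk'_surjective R))
    rw [e, hT.idx]
    have := hT.prime.eq_two_or_odd.resolve_left hT.ne2
    omega
  obtain ⟨E, hE, E1, EM, Emin⟩ := exists_min (N := M.normalCore) inferInstance (h.core_ne hBM)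
  have hX : E ⊔ B ≠ ⊤ := fun e =>
    hM (top_le_iff.1 (e ▸ sup_le (EM.trans M.normalCore_le) hBM.le))
  have uniq : ∀ {N : Subgroup G}, N.Normal → N ≠ ⊥ → E ≤ N := fun {N} hN hne => by
    obtain ⟨F, hF, F1, FN, Fmin⟩ := exists_min hN hne
    by_contra hh
    have EF : E ⊓ F = ⊥ := (Fmin _ inferInstance inf_le_right).resolve_right fun e => hh (by
      rw [← (Emin F hF (e ▸ inf_le_left)).resolve_left F1]; exact FN)
    have hX' : F ⊔ B ≠ ⊤ := fun e => nsol hE E1 le_rfl (sol_ext (N := F) h.sol (e ▸ le_top)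
      (by rw [inf_comm, EF]; infer_instance))
    have hY : Group.IsSolvable ((E ⊔ B) ⊓ (F ⊔ B) : Subgroup G) := sol_ext (N := E) h.sol inf_le_left
      (sol_ext (N := F) h.sol (inf_le_right.trans inf_le_right) (by
        rw [← inf_assoc, inf_comm F, EF, bot_inf_eq]; infer_instance))
    have hBY : B ≤ (E ⊔ B) ⊓ (F ⊔ B) := le_inf le_sup_right le_sup_right
    have h1 := h.rel hBY inf_le_left (Q hX (nsol hE E1 le_sup_left) hBY inf_le_left hY)
    have h2 := h.rel hBY inf_le_right (Q hX' (nsol hF F1 le_sup_left) hBY inf_le_right hY)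
    obtain ⟨g, hg⟩ := gen_of_le (L := A ⊓ (E ⊔ B)) h.cyc inf_le_left
    rw [← hg, Nat.card_zpowers] at h1
    have h3 := orderOf_pow_orderOf_div (orderOf_pos g).ne' h1
    have h4 : g ^ (orderOf g / (2 * Nat.card (A ⊓ ((E ⊔ B) ⊓ (F ⊔ B)) : Subgroup G))) ∈ A ⊓ (E ⊔ B) :=
      hg ▸ pow_mem (mem_zpowers g) _
    generalize g ^ (orderOf g / (2 * Nat.card (A ⊓ ((E ⊔ B) ⊓ (F ⊔ B)) : Subgroup G))) = x at h3 h4
    have h5 := mem_of_cyc h.cyc (H := A ⊓ (F ⊔ B)) inf_le_left h4.1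
      (orderOf_dvd_iff_pow_eq_one.1 (h3 ▸ h2))
    have h6 := (A ⊓ ((E ⊔ B) ⊓ (F ⊔ B))).orderOf_dvd_natCard (x := x) ⟨h4.1, h4.2, h5.2⟩
    have h7 := Nat.card_pos (α := (A ⊓ ((E ⊔ B) ⊓ (F ⊔ B)) : Subgroup G))
    have := Nat.le_of_dvd h7 (h3 ▸ h6)
    omega
  have hC : centralizer (E : Set G) = ⊥ := by
    by_contra hh
    have := uniq inferInstance hh
    exact nsol hE E1 le_rfl (isSolvable_of_comm fun x y => Subtype.ext (this y.2 x x.2))
  have EX : E ≤ E ⊔ B := le_sup_left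
  have BX : B ≤ E ⊔ B := le_sup_right
  have Xle : ∀ W : Subgroup G, E ≤ W → B ≤ W → E ⊔ B ≤ W := fun W => sup_le
  generalize E ⊔ B = X at hX EX BX Xle
  have hXR : RF X := fun N hN hNs => by
    have h1 : (N.map X.subtype).subgroupOf E = ⊥ := hR.sub E _ ⟨by
      rintro ⟨x, xE⟩ ⟨y, hy, rfl⟩ g
      exact ⟨_, hN.conj_mem y hy ⟨g, EX g.2⟩, rfl⟩⟩ (sol_subgroupOf (sol_map hNs _))
    refine eq_bot_iff.2 fun x hx => Subtype.ext (mem_bot.1 (hC ▸ fun e he => ?_))
    have h2 : (e * x * e⁻¹ * (x : G)⁻¹) ∈ E := by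
      rw [mul_assoc, mul_assoc, ← mul_assoc (x : G)]
      exact mul_mem he (hE.conj_mem _ (inv_mem he) x)
    have h3 : (⟨_, h2⟩ : E) ∈ (N.map X.subtype).subgroupOf E :=
      ⟨_, mul_mem (hN.conj_mem x hx ⟨e, EX he⟩) (inv_mem hx), rfl⟩
    rw [h1, mem_bot] at h3
    have h4 : e * x * e⁻¹ * (x : G)⁻¹ = 1 := congrArg Subtype.val h3
    rwa [mul_inv_eq_one, mul_inv_eq_iff_eq_mul] at h4
  obtain ⟨p, v, hT⟩ := ih _ (hlt hX) rfl (h.sub BX) hXR (nsol hE E1 EX)
  have lift : ∀ {x : X}, x ∈ zpowers v → (x : G) ∈ zpowers (v : G) := by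
    rintro _ ⟨j, rfl⟩
    exact ⟨j, rfl⟩
  have nrm : ∀ {g : G}, g * v * g⁻¹ ∈ zpowers (v : G) → g ∈ normalizer (zpowers (v : G) : Set G) :=
    fun {g} hg => mem_normalizer_fintype (by
      rintro _ ⟨j, rfl⟩
      simp only [← conj_zpow]
      exact zpow_mem hg j)
  have hv : v ∈ X.normalCore.subgroupOf X := hT.nm _ inferInstance fun e => by
    haveI := h.cyc
    refine nsol hE E1 (normal_le_normalCore.2 EX) (sol_le (K := A)
      (isSolvable_of_comm IsCyclic.commutative.is_comm.comm) fun x hx => ?_)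
    obtain ⟨a, ha, b, hb, rfl⟩ := h.fac' BX (X.normalCore_le hx)
    have h1 : (⟨b, BX hb⟩ : X) ∈ X.normalCore.subgroupOf X ⊓ B.subgroupOf X :=
      ⟨(mul_mem_cancel_left (h.core_le BX ha)).1 hx, hb⟩
    rw [e, mem_bot] at h1
    have b1 : b = 1 := congrArg Subtype.val h1
    rw [b1, mul_one]
    exact ha.1
  have BW : B ≤ normalizer (zpowers (v : G) : Set G) := fun g hg =>
    nrm (lift (hT.nrm ⟨g, BX hg⟩ hg))
  have WB : normalizer (zpowers (v : G) : Set G) = B := by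
    refine (eq_of_le_of_not_lt BW fun hh => hT.v1 ?_).symm
    have h1 := Xle _ ((uniq inferInstance (h.core_ne hh)).trans (normalCore_le _)) BW
    have : zpowers v = ⊥ := hXR _ ⟨fun x hx g => by
      obtain ⟨j, hj⟩ := (mem_normalizer_iff.1 (h1 g.2) x).1 (lift hx)
      exact ⟨j, Subtype.ext hj⟩⟩ (isSolvable_of_comm IsCyclic.commutative.is_comm.comm)
    exact zpowers_eq_bot.1 this
  refine hX (eq_top_iff.2 fun g _ => ?_)
  have h1 : g * v * g⁻¹ ∈ X := X.normalCore_le ((inferInstance : X.normalCore.Normal).conj_mem _ hv g)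
  obtain ⟨x, hx⟩ := hT.syl ⟨_, h1⟩ (Subtype.ext (by
    change (g * v * g⁻¹) ^ p = 1
    rw [conj_pow, ← coe_pow, hT.vp, coe_one, mul_one, mul_inv_cancel]))
  have h2 : (x : G)⁻¹ * g ∈ B := WB ▸ nrm (by
    have := lift hx
    convert this using 1
    simp only [coe_mul, coe_inv]
    group)
  exact (mul_mem_cancel_left (inv_mem x.2)).1 (BX h2)

end Cfsg.Agent.H15Z
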